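import Cfsg.Agent.Lib.Twisted.Tits.Parity
import Cfsg.Agent.Lib.Twisted.F4.AutBase
import Cfsg.Agent.Lib.Chev.Invol.Classes

/-!
# Representatives of involutions of `²F₄(q)` and their words over the prime field

`Z9 u` is the centre of the Suzuki type class 9, `P11 u` that of the orthogonal class 11, `f0` is the class 8
and `P15` the orthogonal class 15.
-/

set_option autoImplicit false
set_option linter.unusedSectionVars false

namespace Cfsg.Agent.Twisted.F4Invol

open Cfsg.Lie Cfsg.Agent.Chev.BNSetup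
open Cfsg.Agent.Chev hiding wordG wordG_append
open Cfsg.Agent.RootBN (Data OTwist)
open Cfsg.Agent.RootBN.OTwist
open Cfsg.Agent.Twisted.F4 hiding baseA
open Cfsg.Agent.Twisted.Tits (wordG wordG_append imgW base0 baseA baseZ)

/-- The word of a product of representatives of simple reflections. -/
def nnW (ks : List Nd) : List ℕ := ks.flatMap fun k => [(sr k).val, (opp (sr k)).val, (sr k).val]

/-- The word of a product of representatives of the twisted reflections. -/
def nwW (l : List (Fin 2)) : List ℕ := nnW (flatJ l)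

/-- Two roots commute. -/
def commB (a b : Rt) : Bool :=
  decide (b.val ≠ a.val) && decide (b.val ≠ chevF4.neg a.val) &&
    (chevF4.commTerms a.val b.val).all fun x => x.2.1 % 2 == 0

/-- Equality of products of root elements on the coordinate vectors modulo two. -/
noncomputable def eqB (w w' : List ℕ) : Bool :=
  allLt 52 fun i => Nat.beq (Invol.imgB Chev.F4.cert w i) (Invol.imgB Chev.F4.cert w' i)

/-- The words used to conjugate. -/
def gensW : List (List ℕ) := [base0, baseA, baseZ, nwW [0], nwW [1]]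

/-! ### The conjugators -/

/-- Takes the reflection of class 8 to its root element. -/
def c8 : List (List ℕ) := [nwW [0], base0]

/-- Takes the reflection of class 9 to its central root element. -/
def c9 : List (List ℕ) := [nwW [1], baseZ, baseA]

/-- Fuses the product over the classes 8 and 15 into class 8. -/
def cS : List (List ℕ) := [baseZ, baseA, nwW [0], baseA, nwW [0], baseA]

/-- Fuses the product over the classes 9 and 11 into class 8. -/
def cM : List (List ℕ) := [nwW [1], nwW [0], baseA, nwW [1], baseA, base0, nwW [0]]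

theorem c_gens : (∀ w ∈ c8, w ∈ gensW) ∧ (∀ w ∈ c9, w ∈ gensW) ∧ (∀ w ∈ cS, w ∈ gensW) ∧
    ∀ w ∈ cM, w ∈ gensW := by decide +kernel

theorem c_lt : (∀ r ∈ c8.flatten ++ nwW [0] ++ base0, r < 48) ∧
    (∀ r ∈ c9.flatten ++ nwW [1] ++ baseZ, r < 48) ∧
    (∀ r ∈ cS.flatten ++ (base0 ++ [39, 45]) ++ base0, r < 48) ∧
    ∀ r ∈ cM.flatten ++ (baseZ ++ [44, 47]) ++ base0, r < 48 := by decide +kernel

theorem c_eq :
    eqB (c8.flatten ++ nwW [0]) (base0 ++ c8.flatten) = true ∧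
    eqB (c9.flatten ++ nwW [1]) (baseZ ++ c9.flatten) = true ∧
    eqB (cS.flatten ++ (base0 ++ [39, 45])) (base0 ++ cS.flatten) = true ∧
    eqB (cM.flatten ++ (baseZ ++ [44, 47])) (base0 ++ cM.flatten) = true := by
  decide +kernel

theorem comm_checks :
    (∀ r ∈ c8.flatten, ∀ hr : r < chevF4.nroots,
      commB ⟨r, hr⟩ ⟨39, by decide⟩ = true ∧ commB ⟨r, hr⟩ ⟨45, by decide⟩ = true) ∧
    ∀ r ∈ c9.flatten, ∀ hr : r < chevF4.nroots,
      commB ⟨r, hr⟩ ⟨44, by decide⟩ = true ∧ commB ⟨r, hr⟩ ⟨47, by decide⟩ = true := by decide +kernel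

theorem chars_check : ([39, 45, 44, 47, 25].map fun r => [0, 1, 2, 3].map fun i => chevF4.cartan i r) =
    [[0, -1, 1, 0], [0, 2, -1, 0], [1, 0, 0, 0], [0, 0, 0, 1], [0, -2, 2, -1]] := by decide +kernel

/-- The words of the representative of the longest element. -/
def w0C : List ℕ := c8.flatten ++ imgW [1, 0, 1] c8.flatten

theorem w0_checks : (∀ r ∈ c8.flatten, r < 48) ∧ (∀ r ∈ w0C ++ nwW [0, 1, 0, 1, 0, 1, 0, 1] ++ (base0 ++ [39, 45]), r < 48) ∧
    eqB (w0C ++ nwW [0, 1, 0, 1, 0, 1, 0, 1]) ((base0 ++ [39, 45]) ++ w0C) = true := by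
  decide +kernel

variable {F : Type*} [Field F] [CharP F 2] [Fintype F]


theorem wordG_nnW (ks : List Nd) : (gd F).nw ks = wordG (nnW ks) := by
  induction ks with
  | nil => simp [nnW, wordG]
  | cons k ks ih =>
    rw [Data.nw_cons, ih]
    simp only [nnW, List.flatMap_cons]
    rw [wordG_append]
    congr 1
    simp only [wordG, List.map_cons, List.map_nil, List.prod_cons, List.prod_nil, mul_one,
      dif_pos (sr k).2, dif_pos (opp (sr k)).2, Fin.eta]
    refine Subtype.ext ?_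
    show ne' good (sr k).val (1 : F) = _
    simp only [Subgroup.coe_mul, coe_xg, ne', inv_one, CharTwo.neg_eq, mul_assoc]
    rfl

theorem coe_oneWord {w : List ℕ} (hw : ∀ r ∈ w, r < 48) :
    ((wordG w : G F) : GL chevF4.Idx F) = Invol.oneWord chevF4 F w := by
  induction w with
  | nil => simp [wordG]
  | cons r w ih =>
    obtain ⟨hr, hw'⟩ := List.forall_mem_cons.1 hw
    have e : wordG (r :: w) = xg ⟨r, hr⟩ (1 : F) * wordG w := by
      simp [wordG, dif_pos (show r < chevF4.nroots from hr)]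
    rw [e, Subgroup.coe_mul, ih hw', Invol.oneWord_cons, coe_xg]
    exact congrArg (· * _) (Units.ext ((good.coe_xg r (1 : F)).trans (coe_xe good r 1).symm)).symm

theorem eqB_sound {w w' : List ℕ} (h : ∀ r ∈ w, r < 48) (h' : ∀ r ∈ w', r < 48) (e : eqB w w' = true) :
    (wordG w : G F) = wordG w' := by
  refine Subtype.ext (Units.ext ?_)
  rw [coe_oneWord h, coe_oneWord h']
  simp only [eqB, allLt_iff] at e
  refine Matrix.toLin'.injective ((Pi.basisFun F chevF4.Idx).ext fun k => ?_)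
  have hk := congrArg (Invol.vecOf chevF4 F) (Nat.eq_of_beq_eq_true (e (idxNat k) (idxNat_lt k)))
  rw [Invol.vecOf_imgB Chev.F4.valid h, Invol.vecOf_imgB Chev.F4.valid h', Matrix.sub_mulVec,
    Matrix.sub_mulVec, sub_left_inj, bvec_idxNat] at hk
  simpa [Pi.basisFun_apply, Matrix.toLin'_apply] using hk

theorem commute_xg {a b : Rt} (h : commB a b = true) (s t : F) : Commute (xg a s) (xg b t) := by
  simp only [commB, Bool.and_eq_true, decide_eq_true_eq, List.all_eq_true, beq_iff_eq] at h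
  exact xg_comm' h.1.1 h.1.2 h.2 s t

theorem commute_wordG {w : List ℕ} {b : Rt} (h : ∀ r ∈ w, ∀ hr : r < chevF4.nroots, commB ⟨r, hr⟩ b = true)
    (t : F) : Commute (wordG w) (xg b t) := by
  induction w with
  | nil => simp [wordG]
  | cons r w ih =>
    rw [show r :: w = [r] ++ w from rfl, wordG_append]
    refine Commute.mul_left ?_ (ih fun x hx => h x (List.mem_cons_of_mem _ hx))
    by_cases hr : r < chevF4.nroots
    · simpa [wordG, hr] using commute_xg (h r List.mem_cons_self hr) 1 t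
    · simp [wordG, dif_neg hr]

variable {m : ℕ} (hK : Fintype.card F = 2 ^ (2 * m + 1))
include hK

theorem nw_eq (l : List (Fin 2)) : (tw hK).data.nw l = (gd F).nw (flatJ l) := by
  induction l with
  | nil => simp [flatJ]
  | cons a l ih =>
    rw [Data.nw_cons, ih, show flatJ (a :: l) = J a ++ flatJ l from rfl, Data.nw_append]
    rfl

theorem nw_word (l : List (Fin 2)) : (tw hK).data.nw l = wordG (nwW l) := by
  rw [nw_eq hK, wordG_nnW]; rfl

theorem nw_conj_xg (l : List (Fin 2)) (r r' : Rt) (h : ev (flatJ l) r = r'.val) (t : F) :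
    (tw hK).data.nw l * xg r t * ((tw hK).data.nw l)⁻¹ = xg r' t := by
  rw [nw_eq hK]
  refine Subtype.ext ?_
  simp only [Subgroup.coe_mul, Subgroup.coe_inv, coe_nw, coe_xg]
  rw [nw_conj_xe good facts (flatJ l) r t]
  show xe good ((gd F).wl (flatJ l) r).val t = _
  rw [wl_ev, h]

theorem nw_eq_one {l : List (Fin 2)} (h : ∀ k, ev (flatJ l) (sr k) = ev [] (sr k)) :
    (tw hK).data.nw l = 1 := by
  rw [nw_eq hK, nw_eq_of_ev h, Data.nw_nil]

theorem nn_inv (i : Fin 2) : ((tw hK).data.nn i)⁻¹ = (tw hK).data.nn i :=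
  inv_eq_of_mul_eq_one_right (nn'_sq hK i)

theorem nw_mem (l : List (Fin 2)) : (tw hK).data.nw l ∈ (tw hK).Gt :=
  Subgroup.list_prod_mem _ fun x hx => by
    obtain ⟨i, -, rfl⟩ := List.mem_map.1 hx
    exact nn'_mem hK i

/-- The involution exchanging the classes 8 and 15. -/
noncomputable def W15 : G F := (tw hK).data.nw [1, 0, 1]

/-- The involution exchanging the classes 9 and 11. -/
noncomputable def W11 : G F := (tw hK).data.nw [0, 1, 0]

theorem W_sq : W15 hK * W15 hK = 1 ∧ W11 hK * W11 hK = 1 := by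
  constructor
  · rw [W15, ← Data.nw_append]; exact nw_eq_one hK (by decide +kernel)
  · rw [W11, ← Data.nw_append]; exact nw_eq_one hK (by decide +kernel)

theorem W_inv : (W15 hK)⁻¹ = W15 hK ∧ (W11 hK)⁻¹ = W11 hK :=
  ⟨inv_eq_of_mul_eq_one_right (W_sq hK).1, inv_eq_of_mul_eq_one_right (W_sq hK).2⟩

theorem W_mem : W15 hK ∈ (tw hK).Gt ∧ W11 hK ∈ (tw hK).Gt := ⟨nw_mem hK _, nw_mem hK _⟩

/-- The elements of class 15. -/
noncomputable def P15 (t : F) : G F := W15 hK * f0 m t * W15 hK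

/-- The central elements of class 11. -/
noncomputable def P11 (u : F) : G F := W11 hK * f1 m 0 u * W11 hK

omit hK in
theorem f1_zero_eq (u : F) : f1 m 0 u = xg r28 u * xg r30 (u ^ (2 * 2 ^ m)) := by
  simp [f1, E1, xg_zero]

theorem P15_eq (t : F) : P15 hK t = xg (⟨39, by decide⟩ : Rt) (t ^ 2 ^ m) * xg (⟨45, by decide⟩ : Rt) t := by
  conv_lhs => rw [P15, f0, E0]; arg 2; rw [← (W_inv hK).1]
  rw [← conj_mul, W15, nw_conj_xg hK _ r33 ⟨39, by decide⟩ (by decide +kernel),
    nw_conj_xg hK _ r24 ⟨45, by decide⟩ (by decide +kernel)]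

theorem P11_eq (u : F) : P11 hK u =
    xg (⟨44, by decide⟩ : Rt) u * xg (⟨47, by decide⟩ : Rt) (u ^ (2 * 2 ^ m)) := by
  conv_lhs => rw [P11, f1_zero_eq]; arg 2; rw [← (W_inv hK).2]
  rw [← conj_mul, W11, nw_conj_xg hK _ r28 ⟨44, by decide⟩ (by decide +kernel),
    nw_conj_xg hK _ r30 ⟨47, by decide⟩ (by decide +kernel)]

theorem f0_one : f0 m (1 : F) = wordG base0 := by
  simp [f0, E0, wordG, base0]
  rfl

theorem f1_a : f1 m (1 : F) 0 = wordG baseA := by
  simp [f1, E1, wordG, baseA, xg_zero]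
  simp [mul_assoc]
  rfl

theorem f1_z : f1 m (0 : F) 1 = wordG baseZ := by
  simp [f1, E1, wordG, baseZ, xg_zero]
  rfl

theorem P15_one : P15 hK 1 = wordG [39, 45] := by
  rw [P15_eq]; simp [wordG]; rfl

theorem P11_one : P11 hK 1 = wordG [44, 47] := by
  rw [P11_eq]; simp [wordG]; rfl

theorem P15_zero : P15 hK 0 = 1 := by simp [P15, f0_zero, (W_sq hK).1]

theorem P11_zero : P11 hK 0 = 1 := by simp [P11, f1_zero, (W_sq hK).2]

theorem gensW_mem {w : List ℕ} (hw : w ∈ gensW) : (wordG w : G F) ∈ (tw hK).Gt := by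
  simp only [gensW, List.mem_cons, List.not_mem_nil, or_false] at hw
  rcases hw with rfl | rfl | rfl | rfl | rfl
  · exact f0_one (m := m) hK ▸ X'_le_Gt _ ((mem_X'0 hK).2 ⟨1, rfl⟩)
  · exact f1_a (m := m) hK ▸ X'_le_Gt _ ((mem_X'1 hK).2 ⟨1, 0, rfl⟩)
  · exact f1_z (m := m) hK ▸ X'_le_Gt _ ((mem_X'1 hK).2 ⟨0, 1, rfl⟩)
  · exact nw_word hK [0] ▸ nw_mem hK _
  · exact nw_word hK [1] ▸ nw_mem hK _

theorem flatten_mem {L : List (List ℕ)} (hL : ∀ w ∈ L, w ∈ gensW) :
    (wordG L.flatten : G F) ∈ (tw hK).Gt := by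
  induction L with
  | nil => simp [wordG]
  | cons w L ih =>
    rw [List.flatten_cons, wordG_append]
    exact mul_mem (gensW_mem hK (hL w List.mem_cons_self)) (ih fun x hx => hL x (List.mem_cons_of_mem _ hx))

omit hK in
/-- A checked conjugation of words. -/
theorem conj_word {c x y : List ℕ} (h : ∀ r ∈ c ++ x ++ y, r < 48)
    (e : eqB (c ++ x) (y ++ c) = true) :
    (wordG c : G F) * wordG x * (wordG c)⁻¹ = wordG y := by
  rw [mul_inv_eq_iff_eq_mul, ← wordG_append, ← wordG_append]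
  refine eqB_sound ?_ ?_ e <;> intro r hr <;> refine h r ?_ <;> simp at hr ⊢ <;> tauto

theorem c8_conj : (wordG c8.flatten : G F) * (tw hK).data.nn 0 * (wordG c8.flatten)⁻¹ = f0 m 1 ∧
    ∀ t : F, Commute (wordG c8.flatten : G F) (P15 hK t) := by
  refine ⟨?_, fun t => ?_⟩
  · rw [show (tw hK).data.nn 0 = (tw hK).data.nw [0] by simp, nw_word, f0_one hK]
    exact conj_word c_lt.1 c_eq.1
  · rw [P15_eq]
    exact (commute_wordG (fun r hr h => (comm_checks.1 r hr h).1) _).mul_right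
      (commute_wordG (fun r hr h => (comm_checks.1 r hr h).2) _)

theorem c9_conj : (wordG c9.flatten : G F) * (tw hK).data.nn 1 * (wordG c9.flatten)⁻¹ = f1 m 0 1 ∧
    ∀ u : F, Commute (wordG c9.flatten : G F) (P11 hK u) := by
  refine ⟨?_, fun t => ?_⟩
  · rw [show (tw hK).data.nn 1 = (tw hK).data.nw [1] by simp, nw_word, f1_z hK]
    exact conj_word c_lt.2.1 c_eq.2.1
  · rw [P11_eq]
    exact (commute_wordG (fun r hr h => (comm_checks.2 r hr h).1) _).mul_right
      (commute_wordG (fun r hr h => (comm_checks.2 r hr h).2) _)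

/-- `g` is conjugate to a representative. -/
def IsRep (g : G F) : Prop :=
  ∃ h ∈ (tw hK).Gt, h * g * h⁻¹ = f0 m 1 ∨ h * g * h⁻¹ = f1 m 0 1

theorem IsRep.of_conj {g h g' : G F} (hh : h ∈ (tw hK).Gt) (e : h * g * h⁻¹ = g') (hr : IsRep hK g') :
    IsRep hK g := by
  subst e
  obtain ⟨k, hk, h'⟩ := hr
  refine ⟨k * h, mul_mem hk hh, ?_⟩
  simpa [mul_assoc] using h'

/-! ### Scaling by the torus -/

omit hK in
theorem char_eq (a b : Fˣ) (r : ℕ) : torusChar chevF4 (cvec F m (a, b)) r =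
    (a ^ 2 ^ m) ^ chevF4.cartan 0 r * (b ^ 2 ^ m) ^ chevF4.cartan 1 r * b ^ chevF4.cartan 2 r *
      a ^ chevF4.cartan 3 r := by
  show ∏ i : Fin 4, (cvec F m (a, b)) i ^ chevF4.cartan i.val r = _
  rw [Fin.prod_univ_four]
  simp [cvec]

theorem rep_S {t : F} : IsRep hK (f0 m 1 * P15 hK t) := by
  classical
  by_cases ht : t = 0
  · exact ⟨1, one_mem _, Or.inl (by simp [ht, P15_zero])⟩
  obtain ⟨l, hl⟩ := FiniteField.isSquare_of_char_two (ringChar.eq F 2) t
  have hl0 : l ≠ 0 := by rintro rfl; simp at hl; exact ht hl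
  set a : Fˣ := (Units.mk0 l hl0)⁻¹
  set k := tG F (cvec F m (a, 1))
  have hk : k ∈ (tw hK).data.H := (mem_H'_iff hK).2 ⟨_, rfl⟩
  have ha : (torusChar chevF4 (cvec F m (a, 1)) 24 : F) = (a : F) ^ 2 := by
    rw [(cvec_chars a).1, Units.val_pow_eq_pow_val]
  have hfix : k * P15 hK 1 * k⁻¹ = P15 hK 1 := by
    have h := chars_check
    simp only [List.map_cons, List.map_nil, List.cons.injEq] at h
    rw [P15_eq, ← conj_mul, tG_conj_xg, tG_conj_xg, char_eq, char_eq]
    simp [h]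
  have hs : (a : F) ^ 2 * t = 1 := by
    rw [hl]; simp [a]; field_simp
  refine IsRep.of_conj hK (h := W15 hK * k * W15 hK)
    (mul_mem (mul_mem (W_mem hK).1 hk.2) (W_mem hK).1) (g' := f0 m 1 * P15 hK 1) ?_ ?_
  · have hw := (W_sq hK).1
    have e1 : W15 hK * P15 hK 1 * W15 hK = f0 m 1 := by
      rw [P15]
      calc _ = W15 hK * W15 hK * f0 m 1 * (W15 hK * W15 hK) := by group
        _ = _ := by rw [hw, one_mul, mul_one]
    have e2 : k * f0 m t * k⁻¹ = f0 m 1 := by rw [(conj_f hK hk).1, ha, hs]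
    rw [mul_inv_rev, mul_inv_rev, (W_inv hK).1]
    calc W15 hK * k * W15 hK * (f0 m 1 * P15 hK t) * (W15 hK * (k⁻¹ * W15 hK))
        = W15 hK * (k * (W15 hK * f0 m 1 * W15 hK) * k⁻¹) *
            (k * (W15 hK)⁻¹ * P15 hK t * W15 hK * k⁻¹) * W15 hK := by group
      _ = W15 hK * (k * P15 hK 1 * k⁻¹) *
            (k * (W15 hK * W15 hK * f0 m t * (W15 hK * W15 hK)) * k⁻¹) * W15 hK := by
          rw [(W_inv hK).1]; simp only [P15, mul_assoc]
      _ = W15 hK * P15 hK 1 * W15 hK * (W15 hK * f0 m 1 * W15 hK) := by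
          rw [hfix, hw, one_mul, mul_one, e2]
          calc _ = W15 hK * P15 hK 1 * 1 * f0 m 1 * W15 hK := by group
            _ = W15 hK * P15 hK 1 * (W15 hK * W15 hK) * f0 m 1 * W15 hK := by rw [hw]
            _ = _ := by group
      _ = _ := by rw [e1]; rfl
  · refine ⟨_, flatten_mem hK c_gens.2.2.1, Or.inl ?_⟩
    rw [f0_one hK, P15_one hK, ← wordG_append]
    exact conj_word c_lt.2.2.1 c_eq.2.2.1

theorem exponent_surj (x : Fˣ) : ∃ b : Fˣ, b ^ ((2 : ℤ) - 2 * 2 ^ m) = x := by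
  refine ⟨x ^ ((1 : ℤ) + 2 ^ m), ?_⟩
  have hq : x ^ ((2 : ℤ) * ((2 : ℤ) ^ m) ^ 2 - 1) = 1 := by
    rw [show (2 : ℤ) * ((2 : ℤ) ^ m) ^ 2 = ((2 ^ (2 * m + 1) : ℕ) : ℤ) by push_cast; ring,
      zpow_sub_one, zpow_natCast, mul_inv_eq_one]
    exact Units.ext (by rw [Units.val_pow_eq_pow_val]; exact pow_q hK (x : F))
  rw [← _root_.zpow_mul, show ((1 : ℤ) + 2 ^ m) * (2 - 2 * 2 ^ m) = 1 + -(2 * ((2 : ℤ) ^ m) ^ 2 - 1) by ring,
    _root_.zpow_add, _root_.zpow_neg, hq, inv_one, mul_one, zpow_one]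

theorem rep_M {u : F} : IsRep hK (f1 m 0 1 * P11 hK u) := by
  classical
  by_cases hu : u = 0
  · exact ⟨1, one_mem _, Or.inr (by simp [hu, P11_zero])⟩
  set v : Fˣ := (Units.mk0 u hu)⁻¹ with hv
  set a : Fˣ := v ^ 2 ^ (m + 1) with ha
  have ha' : a ^ 2 ^ m = v := (units_half hK v).1
  obtain ⟨b, hb⟩ := exponent_surj hK a
  set k := tG F (cvec F m (a, b))
  have hk : k ∈ (tw hK).data.H := (mem_H'_iff hK).2 ⟨_, rfl⟩
  have h := chars_check
  simp only [List.map_cons, List.map_nil, List.cons.injEq] at h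
  have h25 : torusChar chevF4 (cvec F m (a, b)) 25 = 1 := by
    rw [char_eq]
    simp only [h]
    rw [zpow_zero, one_mul, ← zpow_natCast b, ← _root_.zpow_mul, ← _root_.zpow_add, _root_.zpow_neg_one,
      mul_inv_eq_one]
    convert hb using 2
    push_cast
    ring
  have h44 : torusChar chevF4 (cvec F m (a, b)) 44 = v := by
    rw [char_eq]; simp [h, ha']
  have h47 : torusChar chevF4 (cvec F m (a, b)) 47 = v ^ (2 * 2 ^ m) := by
    rw [char_eq]; simp [h, ha, pow_succ']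
  refine IsRep.of_conj hK hk.2 (g' := f1 m 0 1 * P11 hK 1) ?_ ?_
  · rw [← conj_mul, (conj_f hK hk).2, h25, P11_eq, P11_eq, ← conj_mul, tG_conj_xg, tG_conj_xg, h44, h47]
    simp [hv, hu]
  · refine ⟨_, flatten_mem hK c_gens.2.2.2, Or.inl ?_⟩
    rw [f0_one hK, f1_z hK, P11_one hK, ← wordG_append]
    exact conj_word c_lt.2.2.2 c_eq.2.2.2

theorem rep_8 (t : F) : IsRep hK (P15 hK t * (tw hK).data.nn 0) := by
  refine IsRep.of_conj hK (flatten_mem hK c_gens.1) (g' := P15 hK t * f0 m 1) ?_ ?_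
  · rw [← conj_mul, ((c8_conj hK).2 t).eq, mul_inv_cancel_right, (c8_conj hK).1]
  · refine IsRep.of_conj hK (h := f0 m 1) (X'_le_Gt _ ((mem_X'0 hK).2 ⟨1, rfl⟩)) ?_ (rep_S hK (t := t))
    group

theorem rep_9 (u : F) : IsRep hK (P11 hK u * (tw hK).data.nn 1) := by
  refine IsRep.of_conj hK (flatten_mem hK c_gens.2.1) (g' := P11 hK u * f1 m 0 1) ?_ ?_
  · rw [← conj_mul, ((c9_conj hK).2 u).eq, mul_inv_cancel_right, (c9_conj hK).1]
  · refine IsRep.of_conj hK (h := f1 m 0 1) (X'_le_Gt _ ((mem_X'1 hK).2 ⟨0, 1, rfl⟩)) ?_ (rep_M hK (u := u))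
    group

theorem imgW_eq (l : List (Fin 2)) {w : List ℕ} (hw : ∀ r ∈ w, r < 48) :
    (tw hK).data.nw l * wordG w * ((tw hK).data.nw l)⁻¹ = wordG (imgW l w) := by
  induction w with
  | nil => simp [wordG, imgW]
  | cons r w ih =>
    obtain ⟨hr, hw'⟩ := List.forall_mem_cons.1 hw
    have hlt : ev (flatJ l) ⟨r, hr⟩ < chevF4.nroots :=
      (wl_ev (F := F) (flatJ l) ⟨r, hr⟩).symm.trans_lt (Fin.isLt _)
    have hx := nw_conj_xg hK l ⟨r, hr⟩ ⟨_, hlt⟩ rfl (1 : F)
    have e : wordG (r :: w) = xg ⟨r, hr⟩ (1 : F) * wordG w := by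
      simp [wordG, dif_pos (show r < chevF4.nroots from hr)]
    rw [e, ← conj_mul, hx, ih hw']
    simp only [imgW, List.map_cons, wordG, List.prod_cons,
      show (Fin.ofNat 48 r : Rt) = ⟨r, hr⟩ from Fin.ext (Nat.mod_eq_of_lt hr)]
    congr 1
    split
    · rfl
    · contradiction

/-- A checked conjugation by a product of a word and its image. -/
theorem of_word {c x y : List ℕ} {L : List (List ℕ)} (l : List (Fin 2)) (hL : ∀ w ∈ L, w ∈ gensW)
    (hL' : ∀ r ∈ L.flatten, r < 48) (hc : c = L.flatten ++ imgW l L.flatten)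
    (h : ∀ r ∈ c ++ x ++ y, r < 48) (e : eqB (c ++ x) (y ++ c) = true) (hr : IsRep hK (wordG y)) :
    IsRep hK (wordG x) := by
  subst hc
  refine IsRep.of_conj hK ?_ (conj_word h e) hr
  rw [wordG_append, ← imgW_eq hK l hL']
  exact mul_mem (flatten_mem hK hL) (mul_mem (mul_mem (nw_mem hK l) (flatten_mem hK hL)) (inv_mem (nw_mem hK l)))

theorem rep_w0 : IsRep hK ((tw hK).data.nw [0, 1, 0, 1, 0, 1, 0, 1]) := by
  have hr : IsRep hK (wordG (base0 ++ [39, 45]) : G F) := by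
    rw [wordG_append, ← f0_one hK, ← P15_one hK]
    exact rep_S hK
  rw [nw_word hK]
  exact of_word hK (c := w0C) [1, 0, 1] c_gens.1 w0_checks.1 rfl w0_checks.2.1 w0_checks.2.2 hr

end Cfsg.Agent.Twisted.F4Invol
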