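import Cfsg.Agent.Lib.Twisted.F4Invol.Basic
import Cfsg.Agent.Lib.RootBN.InvolCell

/-!
# Involutions in the cells of the terminal involutions of the Weyl group of `²F₄`
-/

set_option autoImplicit false
set_option linter.unusedSectionVars false

namespace Cfsg.Agent.Twisted.F4Invol

open Cfsg.Lie
open Cfsg.Agent.RootBN (Data OTwist)
open Cfsg.Agent.Twisted.F4 hiding baseA

section kill

variable {G : Type*} [Group G]

/-- An element inverted by `m` is cleared at a pair of factors exchanged by `m`. -/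
theorem kill_pair {m a n b : G} {Y Y' N : Subgroup G} (hm : m * m = 1) (hn : n ∈ N) (ha : a ∈ Y)
    (hb : b ∈ Y') (hθa : m * a * m ∈ Y') (hθb : m * b * m ∈ Y) (hθn : m * n * m ∈ N)
    (hY' : ∀ x ∈ Y', ∀ y ∈ N, x * y * x⁻¹ ∈ N) (hsep : ∀ x ∈ Y', ∀ y ∈ Y, x * y ∈ N → x = 1)
    (h : m * (a * n * b) * m = (a * n * b)⁻¹) : a⁻¹ * (a * n * b * m) * a = n * m := by
  have hbp := Y'.mul_mem hb hθa
  have hsa := Y.mul_mem hθb ha
  have hsplit : m * (a * n * b) * m = m * a * m * (m * n * m) * (m * b * m) := by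
    calc m * (a * n * b) * m = m * a * 1 * n * 1 * b * m := by group
      _ = m * a * (m * m) * n * (m * m) * b * m := by rw [hm]
      _ = _ := by group
  have h1 : b * (m * a * m) * (m * n * m) * ((m * b * m) * a) = n⁻¹ := by
    calc b * (m * a * m) * (m * n * m) * ((m * b * m) * a)
        = b * (m * a * m * (m * n * m) * (m * b * m)) * a := by group
      _ = n⁻¹ := by rw [← hsplit, h]; group
  have h2 : b * (m * a * m) * ((m * b * m) * a) ∈ N := by
    have h3 : b * (m * a * m) * ((m * b * m) * a) =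
        (b * (m * a * m) * (m * n * m) * (b * (m * a * m))⁻¹)⁻¹ * n⁻¹ := by
      rw [← h1]; group
    rw [h3]
    exact N.mul_mem (N.inv_mem (hY' _ hbp _ hθn)) (N.inv_mem hn)
  have h4 := hsep _ hbp _ hsa h2
  calc a⁻¹ * (a * n * b * m) * a = n * b * m * a * 1 := by group
    _ = n * b * m * a * (m * m) := by rw [hm]
    _ = n * (b * (m * a * m)) * m := by group
    _ = n * m := by rw [h4, mul_one]

variable {ι κ : Type*} {D : Data G ι κ} (ax : D.Axioms)
include ax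

/-- The subgroup of a list of classes. -/
theorem list_conj_mem {m : G} {σ : Equiv.Perm ι} (hσ : D.Acts m σ) {N : Subgroup G} {L : List ι}
    (hL : ∀ o ∈ L, D.X (σ o) ≤ N) : (⨆ (o : ι) (_ : o ∈ L), D.X o) ≤ N.comap (MulAut.conj m).toMonoidHom :=
  iSup₂_le fun o ho y hy => hL o ho ((hσ o y).2 hy)

/-- A pair of classes exchanged by a reflection, with a Weyl element sending the second one to the negative of
a simple class and the ones in between into the radical of that class. -/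
theorem kill_cls {m : G} (hm : m * m = 1) {σ : Equiv.Perm ι} (hσ : D.Acts m σ) {Y Y' : ι} (hY : σ Y = Y')
    (hY' : σ Y' = Y) {L : List ι} (hL : ∀ o ∈ L, σ o ∈ L) {l : List κ} {j : κ}
    (hwY' : D.wl l Y' = D.opp (D.simp j)) (hwY : D.Pos (D.wl l Y))
    (hwL : ∀ o ∈ L, D.Pos (D.wl l o) ∧ D.wl l o ≠ D.simp j)
    {a n b : G} (ha : a ∈ D.X Y) (hn : n ∈ ⨆ (o : ι) (_ : o ∈ L), D.X o) (hb : b ∈ D.X Y')
    (h : m * (a * n * b) * m = (a * n * b)⁻¹) : a⁻¹ * (a * n * b * m) * a = n * m := by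
  have hmi : m⁻¹ = m := inv_eq_of_mul_eq_one_right hm
  set w := D.nw l
  set N := (D.Urad j).comap (MulAut.conj w).toMonoidHom with hN
  have hw := Data.acts_nw ax l
  have hle : (⨆ (o : ι) (_ : o ∈ L), D.X o) ≤ N :=
    list_conj_mem ax hw fun o ho => Data.X_le_Urad (hwL o ho).1 (hwL o ho).2
  refine kill_pair hm (hle hn) ha hb ?_ ?_ ?_ ?_ ?_ h
  · have := (hσ Y a).2 ha; rwa [hmi, hY] at this
  · have := (hσ Y' b).2 hb; rwa [hmi, hY'] at this
  · have := hle ((list_conj_mem ax hσ fun o ho => le_iSup₂ (f := fun o (_ : o ∈ L) => D.X o) _ (hL o ho)) hn)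
    simpa [hmi] using this
  · intro x hx y hy
    rw [hN, Subgroup.mem_comap] at hy ⊢
    simp only [MulEquiv.coe_toMonoidHom, MulAut.conj_apply] at hy ⊢
    have hx' := (hw Y' x).2 hx
    rw [hwY'] at hx'
    obtain ⟨z, hz, hxz⟩ : ∃ z ∈ D.X (D.simp j), w * x * w⁻¹ = D.nn j * z * (D.nn j)⁻¹ := by
      refine ⟨(D.nn j)⁻¹ * (w * x * w⁻¹) * D.nn j, ?_, by group⟩
      apply (Data.acts_nn ax j (D.simp j) _).1
      simpa [mul_assoc, ax.refl_simp] using hx'
    have e1 : (D.nn j)⁻¹ * (w * y * w⁻¹) * D.nn j ∈ D.Urad j := by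
      have := Data.H_conj_Urad ax (D.H.inv_mem (ax.nn_sq j)) (Data.nn_conj_Urad ax hy)
      simpa [mul_assoc] using this
    have e2 := Data.nn_conj_Urad ax (Data.X_conj_Urad ax hz e1)
    have e3 : w * (x * y * x⁻¹) * w⁻¹ = (w * x * w⁻¹) * (w * y * w⁻¹) * (w * x * w⁻¹)⁻¹ := by group
    rw [e3, hxz]
    simpa [mul_assoc] using e2
  · intro x hx y hy hxy
    rw [hN, Subgroup.mem_comap] at hxy
    simp only [MulEquiv.coe_toMonoidHom, MulAut.conj_apply] at hxy
    have hx' := (hw Y' x).2 hx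
    have hy' := Data.X_le_U hwY ((hw Y y).2 hy)
    have hU : w * x * w⁻¹ ∈ D.U := by
      have e : w * x * w⁻¹ = w * (x * y) * w⁻¹ * (w * y * w⁻¹)⁻¹ := by group
      rw [e]
      exact D.U.mul_mem (Data.Urad_le_U j hxy) (D.U.inv_mem hy')
    have h0 : w * x * w⁻¹ ∈ D.X (D.wl l Y') ⊓ D.B := ⟨hx', Data.U_le_B hU⟩
    rw [ax.neg_not_mem _ (hwY' ▸ Data.not_pos_opp_simp ax j), Subgroup.mem_bot, conj_eq_one_iff] at h0
    exact h0

/-- The last factor of an element inverted by a reflection. -/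
theorem last_one {m : G} (hm : m * m = 1) {σ : Equiv.Perm ι} (hσ : D.Acts m σ) {s : ι}
    (hs : ¬ D.Pos (σ s)) {L : List ι} (hL : ∀ o ∈ L, D.Pos (σ o)) {w y : G}
    (hw : w ∈ ⨆ (o : ι) (_ : o ∈ L), D.X o) (hy : y ∈ D.X s) (hwy : w * y ∈ D.U)
    (h : m * (w * y) * m = (w * y)⁻¹) : y = 1 := by
  have hmi : m⁻¹ = m := inv_eq_of_mul_eq_one_right hm
  have hw' : m * w * m⁻¹ ∈ D.U := list_conj_mem ax hσ (fun o ho => Data.X_le_U (hL o ho)) hw
  have h1 : m * y * m⁻¹ ∈ D.U := by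
    have e : m * y * m⁻¹ = (m * w * m⁻¹)⁻¹ * (m * (w * y) * m⁻¹) := by group
    rw [e]
    refine D.U.mul_mem (D.U.inv_mem hw') ?_
    rw [hmi, h]
    exact D.U.inv_mem hwy
  have h0 : m * y * m⁻¹ ∈ D.X (σ s) ⊓ D.B := ⟨(hσ s y).2 hy, Data.U_le_B h1⟩
  rw [ax.neg_not_mem _ hs, Subgroup.mem_bot, conj_eq_one_iff] at h0
  exact h0

theorem inv_of_sq {a n : G} (h : a * n * (a * n) = 1) : n * a * n = a⁻¹ :=
  eq_inv_of_mul_eq_one_right (by simpa [mul_assoc] using h)

end kill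

/-! ### Tables -/

/-- The checks for clearing a pair. -/
def killB (j : Fin 2) (Y Y' : Fin 16) (L : List (Fin 16)) : Bool :=
  decide (reflTab j Y = Y') && decide (reflTab j Y' = Y) && L.all (fun o => L.contains (reflTab j o)) &&
    reps.any fun d => [(0 : Fin 2), 1].any fun i =>
      decide (act d Y' = reflTab i (simp' i)) && decide (24 ≤ (rep (act d Y)).val) &&
        L.all fun o => decide (24 ≤ (rep (act d o)).val) && decide (act d o ≠ simp' i)

theorem kill_checks : killB 0 9 10 [13, 12, 15, 11, 14] = true ∧ killB 0 13 14 [12, 15, 11] = true ∧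
    killB 0 12 11 [15] = true ∧ killB 1 8 13 [10, 14, 11, 15, 12] = true ∧ killB 1 10 12 [14, 11, 15] = true ∧
    killB 1 14 15 [11] = true := by decide +kernel

theorem roots_facts : rootsOf (0 :: cov 0) = [9, 13, 12, 15, 11, 14, 10, 8] ∧
    rootsOf (1 :: cov 1) = [8, 10, 14, 11, 15, 12, 13, 9] := by decide +kernel

theorem last_checks : (∀ o ∈ ([9, 13, 12, 15, 11, 14, 10] : List (Fin 16)), 24 ≤ (rep (reflTab 0 o)).val) ∧
    (∀ o ∈ ([8, 10, 14, 11, 15, 12, 13] : List (Fin 16)), 24 ≤ (rep (reflTab 1 o)).val) ∧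
    ∀ j : Fin 2, ¬ 24 ≤ (rep (reflTab j (simp' j))).val := by decide +kernel

theorem flip_facts : (∀ o : Fin 16, 24 ≤ (rep o).val →
      ¬ 24 ≤ (rep (act [0, 1, 0, 1, 0, 1, 0, 1] o)).val) ∧
    (∀ i : Fin 2, ∀ o : Fin 16, 24 ≤ (rep o).val → o ≠ simp' i → 24 ≤ (rep (reflTab i o)).val) ∧
    (∀ i : Fin 2, ¬ 24 ≤ (rep (act [0, 1, 0, 1, 0, 1, 0, 1] (simp' i))).val) ∧
    (∀ k, ev (flatJ ([0, 1, 0, 1, 0, 1, 0, 1] ++ [0, 1, 0, 1, 0, 1, 0, 1])) (sr k) = ev [] (sr k)) ∧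
    act [1, 0, 1] 15 = 8 ∧ act [0, 1, 0] 11 = 9 ∧
    (∀ r : Rt, orb r = 15 → ev (flatJ [0]) r = r.val) ∧
    ∀ r : Rt, orb r = 11 → ev (flatJ [1]) r = r.val := by decide +kernel

variable {F : Type*} [Field F] [CharP F 2] [Fintype F] {m : ℕ} (hK : Fintype.card F = 2 ^ (2 * m + 1))
include hK

theorem pos_iff (o : Fin 16) : (tw hK).data.Pos o ↔ 24 ≤ (rep o).val := Iff.rfl

theorem hTor : ∀ h ∈ (tw hK).data.H, ∀ k : ℕ, h ^ 2 ^ k ∈ (tw hK).data.U → h = 1 := by
  intro h hh k hk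
  have h1 : h ^ 2 ^ k = 1 := by
    rw [← Subgroup.mem_bot, ← OTwist.U_inf_H (axioms hK)]
    exact ⟨OTwist.U'_le_U (axioms hK) hk, Subgroup.pow_mem _ hh.1 _⟩
  obtain ⟨p, rfl⟩ := (mem_H'_iff hK).1 hh
  rw [← map_pow, ← map_one (tG F)] at h1
  have h2 := tG_injective h1
  suffices cvec F m p = 1 by rw [this, map_one]
  funext i
  have h3 : ((cvec F m p i : Fˣ) : F) ^ 2 ^ k = 1 := by
    have := congrArg (fun z : Fˣ => (z : F)) (congrFun h2 i)
    simpa using this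
  refine Units.ext ?_
  have h4 : (((cvec F m p i : Fˣ) : F) + 1) ^ 2 ^ k = 0 := by
    rw [add_pow_char_pow, h3, one_pow, CharTwo.add_self_eq_zero]
  rw [Pi.one_apply, Units.val_one]
  exact CharTwo.add_eq_zero.1 ((pow_eq_zero_iff (by positivity)).1 h4)

theorem hU2 : ∀ u ∈ (tw hK).data.U, ∃ k : ℕ, u ^ 2 ^ k = 1 := fun u hu => by
  refine ⟨(2 * m + 1) * 12, ?_⟩
  have h := pow_card_eq_one' (x := (⟨u, hu⟩ : (tw hK).data.U))
  rw [card_U hK, hK, ← pow_mul] at h
  exact congrArg Subtype.val h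

theorem eq_one_of_flip {u : G F} (hu : u ∈ (tw hK).data.U) {σ : Equiv.Perm (Fin 16)} {n : G F}
    (hσ : (tw hK).data.Acts n σ) (hflip : ∀ o, (tw hK).data.Pos o → ¬ (tw hK).data.Pos (σ o))
    (h : n * u * n⁻¹ ∈ (tw hK).data.B) : u = 1 := by
  have h1 : n * u * n⁻¹ ∈ OTwist.negU (gd F) :=
    (show (tw hK).data.U ≤ (OTwist.negU (gd F)).comap (MulAut.conj n).toMonoidHom from
      iSup₂_le fun o ho y hy => OTwist.Xorb_neg_le_negU (core hK) (hflip o ho) ((hσ o y).2 hy).1) hu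
  have h2 : n * u * n⁻¹ ∈ (gd F).B ⊓ OTwist.negU (gd F) := ⟨OTwist.B'_le_B (axioms hK) h, h1⟩
  rwa [(core hK).B_inf_negU, Subgroup.mem_bot, conj_eq_one_iff] at h2

/-- The factors in the order of the classes. -/
theorem factor (j : Fin 2) {u : G F} (hu : u ∈ (tw hK).data.U) :
    ∃ ys : List (G F), List.Forall₂ (fun o y => y ∈ (tw hK).X' o) (rootsOf (j :: cov j)) ys ∧ u = ys.prod := by
  have hG : u ∈ (tw hK).Gt := (iSup₂_le fun o _ => OTwist.X'_le_Gt o : (tw hK).data.U ≤ _) hu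
  have := OTwist.exists_fixed_factor (core hK) (longest hK j) (OTwist.U'_le_U (axioms hK) hu)
    (OTwist.mem_Fix.1 (OTwist.Gt_le_Fix hG))
  rwa [roots_eq hK] at this

theorem mem_L {L : List (Fin 16)} {o : Fin 16} (ho : o ∈ L) {y : G F} (hy : y ∈ (tw hK).X' o) :
    y ∈ ⨆ (o : Fin 16) (_ : o ∈ L), (tw hK).data.X o :=
  le_iSup₂ (f := fun o (_ : o ∈ L) => (tw hK).data.X o) o ho hy

theorem kill {j : Fin 2} {Y Y' : Fin 16} {L : List (Fin 16)} (hB : killB j Y Y' L = true) {a n b : G F}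
    (ha : a ∈ (tw hK).X' Y) (hn : n ∈ ⨆ (o : Fin 16) (_ : o ∈ L), (tw hK).data.X o) (hb : b ∈ (tw hK).X' Y')
    (h : (tw hK).data.nn j * (a * n * b) * (tw hK).data.nn j = (a * n * b)⁻¹) :
    a⁻¹ * (a * n * b * (tw hK).data.nn j) * a = n * (tw hK).data.nn j := by
  simp only [killB, Bool.and_eq_true, decide_eq_true_eq, List.all_eq_true, List.any_eq_true,
    List.contains_eq_mem] at hB
  obtain ⟨⟨⟨h1, h2⟩, h3⟩, d, -, i, -, ⟨h4, h5⟩, h6⟩ := hB
  have hs := (dax hK).refl_simp i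
  refine kill_cls (dax hK) (nn'_sq hK j) (Data.acts_nn (dax hK) j) (σ := (tw hK).data.refl j) h1 h2 h3
    (l := d) (j := i) ?_ ?_ (fun o ho => ?_) ha hn hb h
  · rw [wl_act hK, h4]; exact hs
  · rw [wl_act hK, pos_iff]; exact h5
  · rw [wl_act hK, pos_iff]; exact h6 o ho

/-- A factor left between the pairs is an involution commuting with the reflection. -/
theorem middle {j : Fin 2} {o : Fin 16} (hfix : ∀ r : Rt, orb r = o → ev (flatJ [j]) r = r.val) {f : G F}
    (hf : f ∈ (tw hK).X' o) (h2 : f * (tw hK).data.nn j * (f * (tw hK).data.nn j) = 1) : f * f = 1 := by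
  set n := (tw hK).data.nn j
  have hc : n * f * n⁻¹ = f := by
    refine (show (tw hK).Xorb o ≤ (MulAut.conj n).toMonoidHom.eqLocus (MonoidHom.id _) from
      iSup₂_le fun r hr y hy => ?_) hf.1
    obtain ⟨t, rfl⟩ := mem_X_iff.1 hy
    have h := nw_conj_xg hK [j] r r (hfix r hr) t
    rwa [Data.nw_cons, Data.nw_nil, mul_one] at h
  calc f * f = f * (n * f * n⁻¹) := by rw [hc]
    _ = f * n * f * n := by rw [nn_inv hK]; simp only [mul_assoc]; rfl
    _ = 1 := by rw [← h2]; simp only [mul_assoc]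

theorem IsRep.of_kill {a x y : G F} (ha : a ∈ (tw hK).Gt) (e : a⁻¹ * x * a = y) (hr : IsRep hK y) :
    IsRep hK x :=
  IsRep.of_conj hK (inv_mem ha) (by rw [inv_inv]; exact e) hr

theorem eq_P15 {f : G F} (hf : f ∈ (tw hK).X' 15) : ∃ t, f = P15 hK t := by
  have h := ((Data.acts_nw (dax hK) [1, 0, 1]) 15 f).2 hf
  rw [wl_act hK, flip_facts.2.2.2.2.1] at h
  obtain ⟨t, ht⟩ := (mem_X'0 hK).1 h
  refine ⟨t, ?_⟩
  rw [P15, ← ht, W15]
  have hw : (tw hK).data.nw [1, 0, 1] * (tw hK).data.nw [1, 0, 1] = 1 := (W_sq hK).1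
  rw [inv_eq_of_mul_eq_one_right hw]
  calc f = 1 * f * 1 := by group
    _ = _ := by rw [← hw]; group

theorem eq_P11 {f : G F} (hf : f ∈ (tw hK).X' 11) (hsq : f * f = 1) : ∃ u, f = P11 hK u := by
  have h := ((Data.acts_nw (dax hK) [0, 1, 0]) 11 f).2 hf
  rw [wl_act hK, flip_facts.2.2.2.2.2.1] at h
  obtain ⟨t, u, ht⟩ := (mem_X'1 hK).1 h
  have hw : (tw hK).data.nw [0, 1, 0] * (tw hK).data.nw [0, 1, 0] = 1 := (W_sq hK).2
  rw [inv_eq_of_mul_eq_one_right hw] at ht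
  have hsq' : f1 m t u * f1 m t u = 1 := by
    rw [← ht]
    calc _ = (tw hK).data.nw [0, 1, 0] * f * ((tw hK).data.nw [0, 1, 0] * (tw hK).data.nw [0, 1, 0]) * f *
          (tw hK).data.nw [0, 1, 0] := by group
      _ = _ := by rw [hw, mul_one, mul_assoc _ f f, hsq, mul_one, hw]
  rw [f1_mul hK, ← f1_zero] at hsq'
  have h0 := (f1_inj hsq').2
  rw [CharTwo.add_self_eq_zero, zero_add, ← pow_succ, pow_eq_zero_iff (Nat.succ_ne_zero _)] at h0
  subst h0
  refine ⟨u, ?_⟩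
  rw [P11, ← ht, W11]
  calc f = 1 * f * 1 := by group
    _ = _ := by rw [← hw]; group

/-- An involution in the cell of the reflection in class 8. -/
theorem cell0 {u : G F} (hu : u ∈ (tw hK).data.U)
    (h2 : u * (tw hK).data.nn 0 * (u * (tw hK).data.nn 0) = 1) : IsRep hK (u * (tw hK).data.nn 0) := by
  obtain ⟨ys, hys, e⟩ := factor hK 0 hu
  rw [roots_facts.1] at hys
  obtain _ | ⟨h9, _ | ⟨h13, _ | ⟨h12, _ | ⟨h15, _ | ⟨h11, _ | ⟨h14, _ | ⟨h10, _ | ⟨h8, ⟨⟩⟩⟩⟩⟩⟩⟩⟩⟩ := hys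
  rename_i a9 a13 a12 a15 a11 a14 a10 a8
  simp only [List.prod_cons, List.prod_nil, mul_one] at e
  have dx := dax hK
  have hy8 : a8 = 1 := by
    refine last_one dx (m := (tw hK).data.nn 0) (nn'_sq hK 0) (Data.acts_nn dx 0) (s := simp' 0) (σ := (tw hK).data.refl 0)
      (last_checks.2.2 0) (L := [9, 13, 12, 15, 11, 14, 10]) (fun o ho => last_checks.1 o ho)
      (w := a9 * (a13 * (a12 * (a15 * (a11 * (a14 * a10)))))) ?_ h8 ?_ ?_
    · exact mul_mem (mem_L hK (by simp) h9) (mul_mem (mem_L hK (by simp) h13) (mul_mem (mem_L hK (by simp) h12)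
        (mul_mem (mem_L hK (by simp) h15) (mul_mem (mem_L hK (by simp) h11) (mul_mem (mem_L hK (by simp) h14)
          (mem_L hK (by simp) h10))))))
    · simpa [e, mul_assoc] using hu
    · simpa [e, mul_assoc] using inv_of_sq dx h2
  subst hy8
  set n := (tw hK).data.nn 0 with hn
  have step : ∀ {v : G F} {c w : G F}, c⁻¹ * (v * n) * c = w * n → v * n * (v * n) = 1 →
      w * n * (w * n) = 1 := by
    intro v c w hc hv
    rw [← hc]
    calc _ = c⁻¹ * (v * n * (v * n)) * c := by group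
      _ = 1 := by rw [hv]; group
  have e1 : u = a9 * (a13 * (a12 * a15 * a11) * a14) * a10 := by rw [e]; group
  have hL1 : a13 * (a12 * a15 * a11) * a14 ∈ ⨆ (o : Fin 16) (_ : o ∈ [13, 12, 15, 11, 14]), (tw hK).data.X o :=
    mul_mem (mul_mem (mem_L hK (by simp) h13) (mul_mem (mul_mem (mem_L hK (by simp) h12) (mem_L hK (by simp) h15))
      (mem_L hK (by simp) h11))) (mem_L hK (by simp) h14)
  rw [e1] at h2 ⊢
  have k1 := kill hK kill_checks.1 h9 hL1 h10 (inv_of_sq dx h2)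
  refine IsRep.of_kill hK (OTwist.X'_le_Gt _ h9) k1 ?_
  have h2' := step k1 h2
  have hL2 : a12 * a15 * a11 ∈ ⨆ (o : Fin 16) (_ : o ∈ [12, 15, 11]), (tw hK).data.X o :=
    mul_mem (mul_mem (mem_L hK (by simp) h12) (mem_L hK (by simp) h15)) (mem_L hK (by simp) h11)
  have k2 := kill hK kill_checks.2.1 h13 hL2 h14 (inv_of_sq dx h2')
  refine IsRep.of_kill hK (OTwist.X'_le_Gt _ h13) k2 ?_
  have h2'' := step k2 h2'
  have k3 := kill hK kill_checks.2.2.1 h12 (mem_L hK (by simp) h15) h11 (inv_of_sq dx h2'')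
  refine IsRep.of_kill hK (OTwist.X'_le_Gt _ h12) k3 ?_
  obtain ⟨t, rfl⟩ := eq_P15 hK h15
  exact rep_8 hK t

/-- An involution in the cell of the reflection in class 9. -/
theorem cell1 {u : G F} (hu : u ∈ (tw hK).data.U)
    (h2 : u * (tw hK).data.nn 1 * (u * (tw hK).data.nn 1) = 1) : IsRep hK (u * (tw hK).data.nn 1) := by
  obtain ⟨ys, hys, e⟩ := factor hK 1 hu
  rw [roots_facts.2] at hys
  obtain _ | ⟨h8, _ | ⟨h10, _ | ⟨h14, _ | ⟨h11, _ | ⟨h15, _ | ⟨h12, _ | ⟨h13, _ | ⟨h9, ⟨⟩⟩⟩⟩⟩⟩⟩⟩⟩ := hys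
  rename_i a8 a10 a14 a11 a15 a12 a13 a9
  simp only [List.prod_cons, List.prod_nil, mul_one] at e
  have dx := dax hK
  have hy9 : a9 = 1 := by
    refine last_one dx (m := (tw hK).data.nn 1) (nn'_sq hK 1) (Data.acts_nn dx 1) (s := simp' 1) (σ := (tw hK).data.refl 1)
      (last_checks.2.2 1) (L := [8, 10, 14, 11, 15, 12, 13]) (fun o ho => last_checks.2.1 o ho)
      (w := a8 * (a10 * (a14 * (a11 * (a15 * (a12 * a13)))))) ?_ h9 ?_ ?_
    · exact mul_mem (mem_L hK (by simp) h8) (mul_mem (mem_L hK (by simp) h10) (mul_mem (mem_L hK (by simp) h14)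
        (mul_mem (mem_L hK (by simp) h11) (mul_mem (mem_L hK (by simp) h15) (mul_mem (mem_L hK (by simp) h12)
          (mem_L hK (by simp) h13))))))
    · simpa [e, mul_assoc] using hu
    · simpa [e, mul_assoc] using inv_of_sq dx h2
  subst hy9
  set n := (tw hK).data.nn 1 with hn
  have step : ∀ {v : G F} {c w : G F}, c⁻¹ * (v * n) * c = w * n → v * n * (v * n) = 1 →
      w * n * (w * n) = 1 := by
    intro v c w hc hv
    rw [← hc]
    calc _ = c⁻¹ * (v * n * (v * n)) * c := by group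
      _ = 1 := by rw [hv]; group
  have e1 : u = a8 * (a10 * (a14 * a11 * a15) * a12) * a13 := by rw [e]; group
  have hL1 : a10 * (a14 * a11 * a15) * a12 ∈ ⨆ (o : Fin 16) (_ : o ∈ [10, 14, 11, 15, 12]), (tw hK).data.X o :=
    mul_mem (mul_mem (mem_L hK (by simp) h10) (mul_mem (mul_mem (mem_L hK (by simp) h14) (mem_L hK (by simp) h11))
      (mem_L hK (by simp) h15))) (mem_L hK (by simp) h12)
  rw [e1] at h2 ⊢
  have k1 := kill hK kill_checks.2.2.2.1 h8 hL1 h13 (inv_of_sq dx h2)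
  refine IsRep.of_kill hK (OTwist.X'_le_Gt _ h8) k1 ?_
  have h2' := step k1 h2
  have hL2 : a14 * a11 * a15 ∈ ⨆ (o : Fin 16) (_ : o ∈ [14, 11, 15]), (tw hK).data.X o :=
    mul_mem (mul_mem (mem_L hK (by simp) h14) (mem_L hK (by simp) h11)) (mem_L hK (by simp) h15)
  have k2 := kill hK kill_checks.2.2.2.2.1 h10 hL2 h12 (inv_of_sq dx h2')
  refine IsRep.of_kill hK (OTwist.X'_le_Gt _ h10) k2 ?_
  have h2'' := step k2 h2'
  have k3 := kill hK kill_checks.2.2.2.2.2 h14 (mem_L hK (by simp) h11) h15 (inv_of_sq dx h2'')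
  refine IsRep.of_kill hK (OTwist.X'_le_Gt _ h14) k3 ?_
  have hsq := middle hK flip_facts.2.2.2.2.2.2.2 h11 (step k3 h2'')
  obtain ⟨t, rfl⟩ := eq_P11 hK h11 hsq
  exact rep_9 hK t

theorem nw_w0_sq : (tw hK).data.nw [0, 1, 0, 1, 0, 1, 0, 1] * (tw hK).data.nw [0, 1, 0, 1, 0, 1, 0, 1] = 1 := by
  rw [← Data.nw_append]; exact nw_eq_one hK flip_facts.2.2.2.1

/-- The monomial part can be replaced by a given involution with the same Weyl element. -/
theorem normalise {l : List (Fin 2)} {σ : Equiv.Perm (Fin 16)} (hl : (tw hK).data.wl l = σ) (hσ2 : σ * σ = 1)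
    {n : G F} (hnN : n ∈ (tw hK).data.N) (hn : (tw hK).data.Acts n σ) (hn2 : n * n = 1)
    {u h : G F} (hu : u ∈ (tw hK).data.U) (hh : h ∈ (tw hK).data.H)
    (h2 : u * (h * (tw hK).data.nw l) * (u * (h * (tw hK).data.nw l)) = 1) :
    ∃ k ∈ (tw hK).Gt, ∃ u' ∈ (tw hK).data.U,
      k * (u * (h * (tw hK).data.nw l)) * k⁻¹ = u' * n ∧ u' * n * (u' * n) = 1 := by
  classical
  have dx := dax hK
  have hmN : h * (tw hK).data.nw l ∈ (tw hK).data.N :=
    Subgroup.mul_mem _ (Data.H_le_N hh) (Data.nw_mem_N l)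
  have hmσ : (tw hK).data.Acts (h * (tw hK).data.nw l) σ := by
    have := (Data.acts_H dx hh).mul (Data.acts_nw dx l)
    rwa [one_mul, hl] at this
  obtain ⟨hm2, -⟩ := Data.inverted dx (hU2 hK) (hTor hK) hmN hmσ hσ2 hu h2
  obtain ⟨k, hk, e⟩ := Data.exists_torus_conj dx (hTor hK) hmN hnN hmσ hn hm2 hn2
  have hu' : k⁻¹ * u * k ∈ (tw hK).data.U := by
    have := Data.H_conj_U dx ((tw hK).data.H.inv_mem hk) hu
    simpa using this
  refine ⟨k⁻¹, Subgroup.inv_mem _ hk.2, k⁻¹ * u * k, hu', ?_, ?_⟩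
  · rw [e]; group
  · calc k⁻¹ * u * k * n * (k⁻¹ * u * k * n) = k⁻¹ * (u * (k * n * k⁻¹) * (u * (k * n * k⁻¹))) * k := by group
      _ = 1 := by rw [← e, h2]; group

/-- Every involution is conjugate to one of two representatives. -/
theorem classified {g : G F} (hg : g ∈ (tw hK).Gt) (h2 : g * g = 1) (h1 : g ≠ 1) : IsRep hK g := by
  have dx := dax hK
  have hflip : ∀ o, (tw hK).data.Pos o →
      ¬ (tw hK).data.Pos ((tw hK).data.wl [0, 1, 0, 1, 0, 1, 0, 1] o) := by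
    intro o ho
    rw [pos_iff, wl_act hK]
    exact flip_facts.1 o ho
  obtain ⟨c, hc, l, hterm, u, hu, h, hh, e⟩ := Data.exists_terminal dx (hTor hK) [0, 1, 0, 1, 0, 1, 0, 1]
    (fun v hv hvB => eq_one_of_flip hK hv (Data.acts_nw dx _) hflip hvB)
    (show g ∈ (tw hK).data.grp from hg) h2 h1
  refine IsRep.of_conj hK (show c ∈ (tw hK).Gt from hc) e ?_
  have h2' : u * (h * (tw hK).data.nw l) * (u * (h * (tw hK).data.nw l)) = 1 := by
    rw [← e]
    calc _ = c * (g * g) * c⁻¹ := by group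
      _ = 1 := by rw [h2]; group
  set σ := (tw hK).data.wl l with hσ
  have single : ∀ i j : Fin 2, i ≠ j → ¬ (tw hK).data.Pos (σ ((tw hK).data.simp i)) →
      (tw hK).data.Pos (σ ((tw hK).data.simp j)) → σ = (tw hK).data.wl [i] := by
    intro i j hij hi hj
    refine Data.eq_of_terminal dx (l := l) (lJ := [i]) (J := fun x => x = i) hterm (fun x => ?_)
      (fun r => r = simp' i ∨ r = reflTab i (simp' i)) ?_ ?_ ?_
    · constructor
      · rintro rfl; exact hi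
      · intro hx
        by_contra hne
        have : x = j := by omega
        exact hx (this ▸ hj)
    · rintro x rfl
      rw [pos_iff, wl_act hK]
      exact last_checks.2.2 x
    · intro r hr
      rcases hr with rfl | rfl
      · exact ⟨[], i, by simp, rfl, rfl⟩
      · exact ⟨[i], i, by simp, rfl, by rw [wl_act hK]; rfl⟩
    · intro r hr hnin
      rw [pos_iff, wl_act hK]
      exact flip_facts.2.1 i r hr fun h => hnin (Or.inl h)
  have hsq : ∀ i : Fin 2, σ = (tw hK).data.wl [i] → (tw hK).data.Acts ((tw hK).data.nn i) σ := by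
    intro i hi
    rw [hi, Data.wl_cons, Data.wl_nil, mul_one]
    exact Data.acts_nn dx i
  by_cases p0 : (tw hK).data.Pos (σ ((tw hK).data.simp 0))
  · by_cases p1 : (tw hK).data.Pos (σ ((tw hK).data.simp 1))
    · exfalso
      obtain ⟨i, hi⟩ := Data.exists_simp_neg dx l hterm.2.1
      rcases (show i = 0 ∨ i = 1 by omega) with rfl | rfl
      exacts [hi p0, hi p1]
    · have hs := single 1 0 (by omega) p1 p0
      obtain ⟨k, hk, u', hu', e', h2''⟩ := normalise hK (l := l) rfl hterm.1 (Data.nn_mem_N 1) (hsq 1 hs)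
        (nn'_sq hK 1) hu hh h2'
      exact IsRep.of_conj hK hk e' (cell1 hK hu' h2'')
  · by_cases p1 : (tw hK).data.Pos (σ ((tw hK).data.simp 1))
    · have hs := single 0 1 (by omega) p0 p1
      obtain ⟨k, hk, u', hu', e', h2''⟩ := normalise hK (l := l) rfl hterm.1 (Data.nn_mem_N 0) (hsq 0 hs)
        (nn'_sq hK 0) hu hh h2'
      exact IsRep.of_conj hK hk e' (cell0 hK hu' h2'')
    · have hs : σ = (tw hK).data.wl [0, 1, 0, 1, 0, 1, 0, 1] := by
        refine Data.eq_of_terminal dx (l := l) (lJ := [0, 1, 0, 1, 0, 1, 0, 1]) (J := fun _ => True) hterm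
          (fun x => ?_) (fun _ => True) ?_ ?_ (fun r _ hn => absurd trivial hn)
        · simp only [true_iff]
          rcases (show x = 0 ∨ x = 1 by omega) with rfl | rfl
          exacts [p0, p1]
        · intro j _
          rw [pos_iff, wl_act hK]
          exact flip_facts.2.2.1 j
        · intro r _
          obtain ⟨w, j, hw⟩ := dx.reach r
          exact ⟨w, j, fun _ _ => trivial, trivial, hw⟩
      obtain ⟨k, hk, u', hu', e', h2''⟩ := normalise hK (l := l) rfl hterm.1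
        (Data.nw_mem_N [0, 1, 0, 1, 0, 1, 0, 1]) (by rw [← hσ, hs]; exact Data.acts_nw dx _) (nw_w0_sq hK) hu hh h2'
      refine IsRep.of_conj hK hk e' ?_
      have hu1 : u' = 1 := by
        refine eq_one_of_flip hK hu' (Data.acts_nw dx _) hflip ?_
        rw [inv_eq_of_mul_eq_one_right (nw_w0_sq hK), inv_of_sq dx h2'']
        exact Data.U_le_B (inv_mem hu')
      rw [hu1, one_mul]
      exact rep_w0 hK

end Cfsg.Agent.Twisted.F4Invol
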