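import Cfsg.Agent.Lib.Twisted.F4Invol.Cells
import Cfsg.Agent.Lib.Twisted.Tits.Main
import Cfsg.Agent.Lib.Chev.Invol.F4.Ranks

/-!
# The two classes of involutions of `²F₄(q)` and of the Tits group
-/

set_option autoImplicit false
set_option linter.unusedSectionVars false

namespace Cfsg.Agent.Twisted.F4Invol

open Cfsg.Lie
open Cfsg.Agent.RootBN (Data OTwist)
open Cfsg.Agent.Twisted.F4 hiding baseA
open Cfsg.Agent.Twisted.Tits (wordG wordG_append imgW base0 baseA baseZ sgn sgn_U parG_apply gam par_gam gam_mem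
  U_le_Gt chi commutator_eq_ker sgn_involution sgn_surjective)

/-- The classes of involutions of a subgroup of index two. -/
theorem ncard_index_two {P : Type*} [Group P] {Q : Subgroup P} (hQ : Q.index = 2)
    (hmem : ∀ g : P, orderOf g = 2 → g ∈ Q) {a b ca cb : P} (ha : orderOf a = 2) (hb : orderOf b = 2)
    (hab : ¬ IsConj a b) (hca : ca ∉ Q) (hcb : cb ∉ Q) (hca' : Commute ca a) (hcb' : Commute cb b)
    (hcl : ∀ g : P, orderOf g = 2 → IsConj g a ∨ IsConj g b) :
    (ConjClasses.mk '' {g : ↥Q | orderOf g = 2}).ncard = 2 := by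
  have key : ∀ {x c g : P}, c ∉ Q → Commute c x → IsConj g x → ∃ h ∈ Q, h * g * h⁻¹ = x := by
    intro x c g hc hcx hg
    obtain ⟨h, e⟩ := isConj_iff.1 hg
    by_cases hh : h ∈ Q
    · exact ⟨h, hh, e⟩
    refine ⟨c * h, (Subgroup.mul_mem_iff_of_index_two hQ).2 (iff_of_false hc hh), ?_⟩
    rw [show c * h * g * (c * h)⁻¹ = c * (h * g * h⁻¹) * c⁻¹ by group, e, hcx.eq, mul_inv_cancel_right]
  have himg : ConjClasses.mk '' {g : ↥Q | orderOf g = 2} =
      {ConjClasses.mk ⟨a, hmem a ha⟩, ConjClasses.mk ⟨b, hmem b hb⟩} := by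
    ext C
    constructor
    · rintro ⟨g, hg, rfl⟩
      have hg' : orderOf (g : P) = 2 := (Subgroup.orderOf_coe g).trans hg
      rcases hcl g hg' with h | h
      · left
        obtain ⟨k, hk, e⟩ := key hca hca' h
        exact ConjClasses.mk_eq_mk_iff_isConj.2 (isConj_iff.2 ⟨⟨k, hk⟩, Subtype.ext e⟩)
      · right
        obtain ⟨k, hk, e⟩ := key hcb hcb' h
        exact ConjClasses.mk_eq_mk_iff_isConj.2 (isConj_iff.2 ⟨⟨k, hk⟩, Subtype.ext e⟩)
    · rintro (rfl | rfl)
      exacts [⟨_, (Subgroup.orderOf_mk a _).trans ha, rfl⟩, ⟨_, (Subgroup.orderOf_mk b _).trans hb, rfl⟩]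
  rw [himg, Set.ncard_pair]
  intro e
  obtain ⟨h, eh⟩ := isConj_iff.1 (ConjClasses.mk_eq_mk_iff_isConj.1 e)
  exact hab (isConj_iff.2 ⟨h, congrArg Subtype.val eh⟩)

/-- Isomorphic groups have as many classes of involutions. -/
theorem ncard_congr {P P' : Type*} [Group P] [Group P'] (e : P ≃* P') :
    (ConjClasses.mk '' {g : P' | orderOf g = 2}).ncard = (ConjClasses.mk '' {g : P | orderOf g = 2}).ncard := by
  have himg : ConjClasses.mk '' {g : P' | orderOf g = 2} =
      ConjClasses.map e.toMonoidHom '' (ConjClasses.mk '' {g : P | orderOf g = 2}) := by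
    ext C
    constructor
    · rintro ⟨g, hg, rfl⟩
      refine ⟨_, ⟨e.symm g, ?_, rfl⟩, ?_⟩
      · show orderOf (e.symm g) = 2
        rw [e.symm.orderOf_eq]; exact hg
      · show ConjClasses.mk (e (e.symm g)) = _
        rw [e.apply_symm_apply]
    · rintro ⟨_, ⟨g, hg, rfl⟩, rfl⟩
      refine ⟨e g, ?_, rfl⟩
      show orderOf (e g) = 2
      rw [e.orderOf_eq]; exact hg
  rw [himg, Set.ncard_image_of_injective]
  intro C C' h
  obtain ⟨x, rfl⟩ := ConjClasses.mk_surjective C
  obtain ⟨y, rfl⟩ := ConjClasses.mk_surjective C'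
  refine ConjClasses.mk_eq_mk_iff_isConj.2 ?_
  simpa using e.symm.toMonoidHom.map_isConj (ConjClasses.mk_eq_mk_iff_isConj.1 h)

variable {F : Type*} [Field F] [CharP F 2] [Fintype F] {m : ℕ} (hK : Fintype.card F = 2 ^ (2 * m + 1))

theorem inv_checks : eqB [44, 47] [47, 44] = true ∧
    eqB (base0 ++ base0) [] = true ∧ eqB (baseZ ++ baseZ) [] = true ∧
    eqB (baseA ++ baseZ) (baseZ ++ baseA) = true ∧
    eqB (imgW [1] baseA ++ base0) (base0 ++ imgW [1] baseA) = true ∧
    (∀ r ∈ imgW [1] baseA, r < 48) := by decide +kernel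

include hK

/-- The representative of the first class. -/
noncomputable def repS : ↥(tw hK).Gt := ⟨f0 m 1, OTwist.X'_le_Gt _ ((mem_X'0 hK).2 ⟨1, rfl⟩)⟩

/-- The representative of the second class. -/
noncomputable def repL : ↥(tw hK).Gt := ⟨f1 m 0 1, OTwist.X'_le_Gt _ ((mem_X'1 hK).2 ⟨0, 1, rfl⟩)⟩

omit hK in
/-- The invariant separating the classes. -/
noncomputable def dimW (g : G F) : ℕ :=
  Chev.Invol.invDim chevF4 F (Chev.Invol.colSpan chevF4 F Chev.Invol.F4.shortCols) (g : GL chevF4.Idx F)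

omit hK in
theorem dimW_conj (h g : G F) : dimW (h * g * h⁻¹) = dimW g := by
  rw [dimW, dimW, Subgroup.coe_mul, Subgroup.coe_mul, Subgroup.coe_inv]
  exact Chev.Invol.invDim_conj_group Chev.F4.valid Chev.Invol.F4.shortCols_pres h.2 _

theorem dim_reps : dimW (repS hK : G F) = 12 ∧ dimW (repL hK : G F) = 10 := by
  constructor
  · show dimW (f0 m (1 : F)) = 12
    rw [← dimW_conj (W15 hK)]
    show dimW (W15 hK * f0 m 1 * (W15 hK)⁻¹) = 12
    rw [(W_inv hK).1, show W15 hK * f0 m 1 * W15 hK = P15 hK 1 from rfl, P15_one, dimW,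
      coe_oneWord (by decide), Chev.Invol.invDim_eq Chev.F4.valid (by decide) Chev.Invol.F4.rankShort3_ok,
      Chev.Invol.F4.rankShort3_len]
  · show dimW (f1 m (0 : F) 1) = 10
    rw [← dimW_conj (W11 hK)]
    show dimW (W11 hK * f1 m 0 1 * (W11 hK)⁻¹) = 10
    rw [(W_inv hK).2, show W11 hK * f1 m 0 1 * W11 hK = P11 hK 1 from rfl, P11_one,
      eqB_sound (by decide) (by decide) inv_checks.1, dimW,
      coe_oneWord (by decide), Chev.Invol.invDim_eq Chev.F4.valid (by decide) Chev.Invol.F4.rankShort2_ok,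
      Chev.Invol.F4.rankShort2_len]

theorem not_conj : ¬ IsConj (repS hK) (repL hK) := by
  rintro h
  obtain ⟨k, e⟩ := isConj_iff.1 h
  have h1 := dimW_conj (k : G F) (repS hK : G F)
  rw [show (k : G F) * (repS hK : G F) * (k : G F)⁻¹ = (repL hK : G F) from congrArg Subtype.val e,
    (dim_reps hK).1, (dim_reps hK).2] at h1
  omega

theorem order_reps : orderOf (repS hK) = 2 ∧ orderOf (repL hK) = 2 := by
  constructor <;> rw [← Subgroup.orderOf_coe] <;> refine orderOf_eq_prime ?_ ?_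
  · show f0 m (1 : F) ^ 2 = 1
    rw [pow_two, f0_one hK, ← wordG_append]
    simpa [wordG] using eqB_sound (F := F) (w' := []) (by decide) (by simp) inv_checks.2.1
  · exact fun h => by
      have e : f0 m (1 : F) = 1 := h
      rw [← f0_zero (m := m)] at e
      exact one_ne_zero (E0_inj e).2
  · show f1 m (0 : F) 1 ^ 2 = 1
    rw [pow_two, f1_z hK, ← wordG_append]
    simpa [wordG] using eqB_sound (F := F) (w' := []) (by decide) (by simp) inv_checks.2.2.1
  · exact fun h => by
      have e : f1 m (0 : F) 1 = 1 := h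
      rw [← f1_zero (m := m)] at e
      exact one_ne_zero (f1_inj e).2

theorem classes_Gt (g : ↥(tw hK).Gt) (hg : orderOf g = 2) :
    IsConj g (repS hK) ∨ IsConj g (repL hK) := by
  have h2 : g * g = 1 := by
    have := pow_orderOf_eq_one g
    rwa [hg, pow_two] at this
  have h1 : (g : G F) ≠ 1 := fun h => by
    rw [show g = 1 from Subtype.ext h, orderOf_one] at hg
    omega
  obtain ⟨h, hh, e | e⟩ := classified hK g.2 (congrArg Subtype.val h2) h1
  exacts [Or.inl (isConj_iff.2 ⟨⟨h, hh⟩, Subtype.ext e⟩), Or.inr (isConj_iff.2 ⟨⟨h, hh⟩, Subtype.ext e⟩)]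

/-- Two classes of involutions in ²F₄(q). -/
theorem ncard_twisted :
    (ConjClasses.mk '' {g : ↥(twistedF4 F (2 ^ m)) | orderOf g = 2}).ncard = 2 := by
  rw [ncard_congr (equivTwisted hK)]
  have himg : ConjClasses.mk '' {g : ↥(tw hK).Gt | orderOf g = 2} =
      {ConjClasses.mk (repS hK), ConjClasses.mk (repL hK)} := by
    ext C
    constructor
    · rintro ⟨g, hg, rfl⟩
      exact (classes_Gt hK g hg).imp ConjClasses.mk_eq_mk_iff_isConj.2 ConjClasses.mk_eq_mk_iff_isConj.2
    · rintro (rfl | rfl)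
      exacts [⟨_, (order_reps hK).1, rfl⟩, ⟨_, (order_reps hK).2, rfl⟩]
  rw [himg, Set.ncard_pair fun e => not_conj hK (ConjClasses.mk_eq_mk_iff_isConj.1 e)]

omit hK in
/-- Two classes of involutions in the Tits group. -/
theorem ncard_tits (hK : Fintype.card F = 2 ^ (2 * 0 + 1)) :
    (ConjClasses.mk '' {g : ↥(commutator ↥(twistedF4 F (2 ^ 0))) | orderOf g = 2}).ncard = 2 := by
  have he : (commutator ↥(tw hK).Gt).map (equivTwisted hK).toMonoidHom = commutator ↥(twistedF4 F (2 ^ 0)) := by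
    rw [commutator_def, Subgroup.map_commutator,
      Subgroup.map_top_of_surjective _ (equivTwisted hK).surjective, commutator_def]
  refine (ncard_congr (((equivTwisted hK).subgroupMap (commutator ↥(tw hK).Gt)).trans
    (MulEquiv.subgroupCongr he))).trans ?_
  have hidx : (commutator ↥(tw hK).Gt).index = 2 := by
    rw [commutator_eq_ker hK, Subgroup.index_ker, MonoidHom.range_eq_top.2 (sgn_surjective hK),
      Subgroup.card_top, Nat.card_eq_fintype_card]
    rfl
  have hA : (wordG baseA : G F) ∈ (tw hK).data.U := gam_mem hK (k := 0) (by norm_num)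
  set cA : ↥(tw hK).Gt := ⟨wordG baseA, U_le_Gt hK hA⟩ with hcA
  have hs : sgn hK cA ≠ 1 := by
    rw [show sgn hK cA = Multiplicative.ofAdd (chi 0) from
      (sgn_U hK ⟨cA, hA⟩).trans (par_gam hK (k := 0) (by norm_num) hA)]
    decide
  have hn : (tw hK).data.nw [1] ∈ (tw hK).Gt := nw_mem hK [1]
  refine ncard_index_two hidx ?_ (order_reps hK).1 (order_reps hK).2 (not_conj hK)
    (ca := ⟨_, hn⟩ * cA * ⟨_, hn⟩⁻¹) (cb := cA) ?_ ?_ ?_ ?_ (classes_Gt hK)
  · intro g hg
    rw [commutator_eq_ker hK, MonoidHom.mem_ker]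
    refine sgn_involution hK ?_
    have := pow_orderOf_eq_one g
    rwa [hg, pow_two] at this
  · rw [commutator_eq_ker hK, MonoidHom.mem_ker, map_mul, map_mul, map_inv, mul_right_comm, mul_inv_cancel,
      one_mul]
    exact hs
  · rw [commutator_eq_ker hK, MonoidHom.mem_ker]
    exact hs
  · refine Subtype.ext ?_
    show (tw hK).data.nw [1] * wordG baseA * ((tw hK).data.nw [1])⁻¹ * f0 0 1 =
      f0 0 1 * ((tw hK).data.nw [1] * wordG baseA * ((tw hK).data.nw [1])⁻¹)
    rw [imgW_eq hK [1] (by decide), f0_one hK, ← wordG_append, ← wordG_append]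
    exact eqB_sound (fun r hr => (List.mem_append.1 hr).elim (inv_checks.2.2.2.2.2 r) ((by decide : ∀ r ∈ base0, r < 48) r))
      (fun r hr => (List.mem_append.1 hr).elim ((by decide : ∀ r ∈ base0, r < 48) r) (inv_checks.2.2.2.2.2 r))
      inv_checks.2.2.2.2.1
  · refine Subtype.ext ?_
    show wordG baseA * f1 0 0 1 = f1 0 0 1 * wordG baseA
    rw [f1_z hK, ← wordG_append, ← wordG_append]
    exact eqB_sound (by decide) (by decide) inv_checks.2.2.2.1

end Cfsg.Agent.Twisted.F4Invol
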